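import Groth.Prelude.Def_KoszTw
import Groth.Agent.Lib.Koszul12.Twist
import Groth.Agent.Lib.TensorGen.Basic
import Groth.Agent.Lib.AffHom.Basic
import Groth.Agent.Lib.FinCov.Frame
import Groth.Agent.Lib.TensorGen.Det
import Groth.Agent.Lib.Cohom.Serre

/-!
# Twisted Koszul complexes: kernels and images
-/

set_option autoImplicit false
set_option linter.all false
set_option maxHeartbeats 1000000
set_option backward.isDefEq.respectTransparency false
universe u

open CategoryTheory CategoryTheory.Limits AlgebraicGeometry TopologicalSpace Opposite KoszTw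

noncomputable section

namespace GrothLib.KoszTw9

open GrothLib
open GrothLib.InvExt (mres IsGen)
open GrothLib.VA (tm)

variable {X : Scheme.{u}}

theorem kernelSubobject_eq_of_basis {ι : Type u} {B : ι → X.Opens} (hB : Opens.IsBasis (Set.range B))
    {M N N' : X.Modules} (f : M ⟶ N) (g : M ⟶ N')
    (h : ∀ (i : ι) (m : Γ(M, B i)), f.app (B i) m = 0 ↔ g.app (B i) m = 0) :
    kernelSubobject f = kernelSubobject g := by
  refine le_antisymm (le_kernelSubobject _ _ ?_) (le_kernelSubobject _ _ ?_)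
  · refine AffHom.hom_ext_basis hB fun i x => ?_
    show g.app (B i) ((kernelSubobject f).arrow.app (B i) x) = 0
    refine (h i _).1 ?_
    show ((kernelSubobject f).arrow ≫ f).app (B i) x = 0
    rw [kernelSubobject_arrow_comp]
    rfl
  · refine AffHom.hom_ext_basis hB fun i x => ?_
    show f.app (B i) ((kernelSubobject g).arrow.app (B i) x) = 0
    refine (h i _).2 ?_
    show ((kernelSubobject g).arrow ≫ g).app (B i) x = 0
    rw [kernelSubobject_arrow_comp]
    rfl

theorem imageSubobject_le_of_basis {ι : Type u} {B : ι → X.Opens} (hB : Opens.IsBasis (Set.range B))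
    {M M' N : X.Modules} (f : M ⟶ N) (g : M' ⟶ N)
    (h : ∀ (i : ι) (m : Γ(M, B i)), ∃ m' : Γ(M', B i), g.app (B i) m' = f.app (B i) m) :
    imageSubobject f ≤ imageSubobject g := by
  have hzero : f ≫ cokernel.π g = 0 := by
    refine AffHom.hom_ext_basis hB fun i m => ?_
    obtain ⟨m', hm'⟩ := h i m
    show (cokernel.π g).app (B i) (f.app (B i) m) = 0
    rw [← hm']
    show (g ≫ cokernel.π g).app (B i) m' = 0
    rw [cokernel.condition]
    rfl
  let e : Abelian.image g ≅ (imageSubobject g : X.Modules) :=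
    Abelian.imageIsoImage g ≪≫ (imageSubobjectIso g).symm
  refine imageSubobject_le f (kernel.lift (cokernel.π g) f hzero ≫ e.hom) ?_
  have he : e.hom ≫ (imageSubobject g).arrow = Abelian.image.ι g := by
    simp [e]
  rw [Category.assoc, he]
  exact kernel.lift_ι _ _ _

section Twist

variable {F L : X.Modules} {s : F ⟶ Coh.structureModule X} {lam : Coh.structureModule X ⟶ L}
  {t : CohB1.tensorMod F L ⟶ Coh.structureModule X}

/-- The value of a global section at a generator. -/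
theorem exists_lam (U : X.Opens) {l : Γ(L, U)} (hl : IsGen L U l) :
    ∃ a : Γ(X, U), ∀ c : Γ(X, U), lam.app U c = (c * a) • l := by
  obtain ⟨a, ha⟩ := (hl U le_rfl).2 (lam.app U (FinCov.one X U))
  refine ⟨a, fun c => ?_⟩
  have ha' : a • l = lam.app U (FinCov.one X U) := by
    have := ha
    simpa [InvExt.mres_self] using this
  rw [mul_smul, ha', ← Scheme.Modules.Hom.app_smul]
  congr 1
  exact (FinCov.smul_one U c).symm

theorem mem_nonZeroDivisors_of_mono [Mono lam] (U : X.Opens) {l : Γ(L, U)} {a : Γ(X, U)}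
    (ha : ∀ c : Γ(X, U), lam.app U c = (c * a) • l) : a ∈ nonZeroDivisors Γ(X, U) := by
  refine mem_nonZeroDivisors_iff_right.2 fun c hc => ?_
  refine Cohom.app_injective_of_mono lam U ?_
  rw [map_zero, ha, hc, zero_smul]

variable (htri : TwistTriangle s lam t) (U : X.Opens) {l : Γ(L, U)} (hl : IsGen L U l) {a : Γ(X, U)}
  (ha : ∀ c : Γ(X, U), lam.app U c = (c * a) • l)

include htri hl ha in
theorem a_mul_secForm (f : Γ(F, U)) : a * KoszSh.secForm t U (tm f l) = KoszSh.secForm s U f := by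
  have h := (htri U f l).symm.trans (ha _)
  refine ((hl U le_rfl).1 ?_).symm
  show KoszSh.secForm s U f • mres L le_rfl l = (a * KoszSh.secForm t U (tm f l)) • mres L le_rfl l
  rw [InvExt.mres_self, mul_comm]
  exact h

end Twist

section Loc

variable {F L : X.Modules} {s : F ⟶ Coh.structureModule X} {lam : Coh.structureModule X ⟶ L}
  {t : CohB1.tensorMod F L ⟶ Coh.structureModule X}
  (C : KoszSh.Cx F s) (D : KoszSh.Cx (CohB1.tensorMod F L) t) (U : X.affineOpens) {l : Γ(L, U.1)}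
  (hl : IsGen L U.1 l)

/-- `f ↦ f ⊗ l`. -/
abbrev φ : Γ(F, U.1) ≃ₗ[Γ(X, U.1)] Γ(CohB1.tensorMod F L, U.1) := TensorGen.tmEquiv F L hl

/-- Sections of a term of the twisted complex from sections of the untwisted one. -/
def Φ (p : ℕ) : Γ(C.K.X p, U.1) →ₗ[Γ(X, U.1)] Γ(D.K.X p, U.1) :=
  (D.loc p U).symm.toLinearMap ∘ₗ exteriorPower.map p (φ U hl).toLinearMap ∘ₗ (C.loc p U).toLinearMap

theorem Φ_apply (p : ℕ) (e : Fin p → Γ(F, U.1)) :
    Φ C D U hl p ((C.loc p U).symm (exteriorPower.ιMulti _ p e)) =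
      (D.loc p U).symm (exteriorPower.ιMulti _ p (fun j => tm (e j) l)) := by
  show (D.loc p U).symm (exteriorPower.map p _ ((C.loc p U) ((C.loc p U).symm _))) = _
  rw [LinearEquiv.apply_symm_apply, exteriorPower.map_apply_ιMulti]
  rfl

theorem Φ_bijective (p : ℕ) : Function.Bijective (Φ C D U hl p) := by
  refine ⟨?_, ?_⟩
  · refine Function.LeftInverse.injective (g := fun x => (C.loc p U).symm
      (exteriorPower.map p (φ U hl).symm.toLinearMap (D.loc p U x))) fun c => ?_
    show (C.loc p U).symm (exteriorPower.map p _ (D.loc p U ((D.loc p U).symm (exteriorPower.map p _ (C.loc p U c))))) = c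
    rw [LinearEquiv.apply_symm_apply, ← LinearMap.comp_apply, ← exteriorPower.map_comp,
      show (φ U hl).symm.toLinearMap ∘ₗ (φ U hl).toLinearMap = LinearMap.id from
        LinearMap.ext fun x => (φ U hl).symm_apply_apply x, exteriorPower.map_id, LinearMap.id_apply,
      LinearEquiv.symm_apply_apply]
  · refine Function.RightInverse.surjective (g := fun x => (C.loc p U).symm
      (exteriorPower.map p (φ U hl).symm.toLinearMap (D.loc p U x))) fun x => ?_
    show (D.loc p U).symm (exteriorPower.map p _ (C.loc p U ((C.loc p U).symm (exteriorPower.map p _ (D.loc p U x))))) = x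
    rw [LinearEquiv.apply_symm_apply, ← LinearMap.comp_apply, ← exteriorPower.map_comp,
      show (φ U hl).toLinearMap ∘ₗ (φ U hl).symm.toLinearMap = LinearMap.id from
        LinearMap.ext fun x => (φ U hl).apply_symm_apply x, exteriorPower.map_id, LinearMap.id_apply,
      LinearEquiv.symm_apply_apply]

/-- Induction on decomposable sections. -/
theorem loc_induction (p : ℕ) {P : Γ(C.K.X p, U.1) → Prop}
    (h : ∀ e : Fin p → Γ(F, U.1), P ((C.loc p U).symm (exteriorPower.ιMulti _ p e))) (h0 : P 0)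
    (hadd : ∀ x y, P x → P y → P (x + y)) (hsmul : ∀ (r : Γ(X, U.1)) x, P x → P (r • x)) (c : Γ(C.K.X p, U.1)) : P c := by
  obtain ⟨w, rfl⟩ := (C.loc p U).symm.surjective c
  have hw : w ∈ Submodule.span Γ(X, U.1) (Set.range (exteriorPower.ιMulti Γ(X, U.1) p (M := Γ(F, U.1)))) := by
    rw [exteriorPower.ιMulti_span]; trivial
  induction hw using Submodule.span_induction with
  | mem y hy => obtain ⟨e, rfl⟩ := hy; exact h e
  | zero => rw [map_zero]; exact h0
  | add y z _ _ hy hz => rw [map_add]; exact hadd _ _ hy hz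
  | smul r y _ hy => rw [map_smul]; exact hsmul _ _ hy

variable (htri : TwistTriangle s lam t) {a : Γ(X, U.1)} (ha : ∀ c : Γ(X, U.1), lam.app U.1 c = (c * a) • l)

include htri ha in
/-- The differentials differ by the value of the section. -/
theorem smul_d_Φ (q : ℕ) (c : Γ(C.K.X (q + 1), U.1)) :
    a • (D.K.d (q + 1) q).app U.1 (Φ C D U hl (q + 1) c) = Φ C D U hl q ((C.K.d (q + 1) q).app U.1 c) := by
  induction c using loc_induction C U with
  | h e =>
    rw [Φ_apply, D.rule, C.rule]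
    simp only [KoszSh.dGen, map_sum, map_smul, Finset.smul_sum, Φ_apply, smul_smul]
    refine Finset.sum_congr rfl fun i _ => ?_
    rw [mul_left_comm, a_mul_secForm htri U.1 hl ha]
  | h0 => simp
  | hadd x y hx hy => simp only [map_add, smul_add, hx, hy]
  | hsmul r x hx => rw [map_smul, Scheme.Modules.Hom.app_smul, smul_comm, hx, Scheme.Modules.Hom.app_smul, map_smul]

/-- The product of copies of the generator. -/
abbrev P (L : X.Modules) (U : X.Opens) (l : Γ(L, U)) (q : ℕ) : Γ(CohB1.tensorPow L q, U) :=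
  KoszTw.tprod L q U fun _ => l

include hl in
theorem isGen_P : ∀ q, IsGen (CohB1.tensorPow L q) U.1 (P L U.1 l q)
  | 0 => TensorGen.isGen_one U.1
  | q + 1 => VA.isGen_tm (isGen_P q) hl

theorem iso_Φ (q : ℕ) (θ : KoszTw.CxDecData C D q) (c : Γ(C.K.X q, U.1)) :
    θ.iso.hom.app U.1 (Φ C D U hl q c) = tm c (P L U.1 l q) := by
  induction c using loc_induction C U with
  | h e =>
    rw [Φ_apply]
    exact θ.rule U e fun _ => l
  | h0 => rw [map_zero, map_zero]; exact ((TensorGen.tmEquiv _ _ (isGen_P U hl q)).map_zero).symm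
  | hadd x y hx hy => rw [map_add, map_add, hx, hy, VA.tm_add_left]
  | hsmul r x hx => rw [map_smul, Scheme.Modules.Hom.app_smul, hx, VA.tm_smul_left]

include hl in
theorem smul_injective_of_frame (p : ℕ) {n : ℕ} {e : Fin n → Γ(F, U.1)} (he : FinCov.IsFrame F U.1 e)
    {a : Γ(X, U.1)} (ha : a ∈ nonZeroDivisors Γ(X, U.1)) {x : Γ(D.K.X p, U.1)} (h : a • x = 0) : x = 0 := by
  let b := (he.basis U.1 le_rfl).map (φ U hl)
  haveI : Module.Free Γ(X, U.1) Γ(CohB1.tensorMod F L, U.1) := Module.Free.of_basis b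
  let β := Module.Free.chooseBasis Γ(X, U.1) ↥(⋀[Γ(X, U.1)]^p Γ(CohB1.tensorMod F L, U.1))
  refine (D.loc p U).injective (β.repr.injective (Finsupp.ext fun i => ?_))
  have h1 := congrArg (fun v => β.repr (D.loc p U v) i) h
  simp only [map_smul, map_zero, Finsupp.smul_apply, smul_eq_mul, Finsupp.coe_zero, Pi.zero_apply] at h1
  simp only [map_zero, Finsupp.coe_zero, Pi.zero_apply]
  exact (mem_nonZeroDivisors_iff.1 ha).1 _ h1

end Loc

theorem unitorR_inv_app (M : X.Modules) (U : X.Opens) (x : Γ(M, U)) :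
    (SecTwist.unitorR M).inv.app U x = tm x (FinCov.one X U) := by
  have h : (SecTwist.unitorR M).hom.app U (tm x (FinCov.one X U)) = x :=
    (SecTwist.unitorR_tmul M U x (1 : X.ringCatSheaf.obj.obj (op U))).trans (one_smul (X.ringCatSheaf.obj.obj (op U)) (show M.val.obj (op U) from x))
  conv_lhs => rw [← h]
  show ((SecTwist.unitorR M).hom ≫ (SecTwist.unitorR M).inv).app U (tm x (FinCov.one X U)) = _
  rw [Iso.hom_inv_id]
  rfl

theorem isBasis_gen_frame {F L : X.Modules} (hF : FlatMod.IsFinLocFree F) (hL : PicF.IsInvertible L) :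
    Opens.IsBasis (Set.range fun U : {U : X.affineOpens // (∃ l : Γ(L, U.1), IsGen L U.1 l) ∧
      ∃ (n : ℕ) (e : Fin n → Γ(F, U.1)), FinCov.IsFrame F U.1 e} => U.1.1) := by
  rw [Opens.isBasis_iff_nbhd]
  intro V x hx
  obtain ⟨W, l, hxW, hl⟩ := InvExt.exists_gen_nhd hL x
  obtain ⟨W', n, e, hxW', he⟩ := FinCov.exists_frame_nhd hF x
  obtain ⟨_, ⟨U, hU, rfl⟩, hxU, hle⟩ := X.isBasis_affineOpens.exists_subset_of_mem_open
    (show x ∈ ((V ⊓ W ⊓ W' : X.Opens) : Set X) from ⟨⟨hx, hxW⟩, hxW'⟩) (V ⊓ W ⊓ W' : X.Opens).2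
  have hle' : (U : X.Opens) ≤ V ⊓ W ⊓ W' := hle
  refine ⟨U, ⟨⟨⟨U, hU⟩, ⟨_, hl.restrict (hle'.trans (inf_le_left.trans inf_le_right))⟩, n, _,
    TensorGen.isFrame_restrict he (hle'.trans inf_le_right)⟩, rfl⟩, hxU, hle'.trans (inf_le_left.trans inf_le_left)⟩

theorem comp_tensorMap_iso_Φ {F L : X.Modules} {s : F ⟶ Coh.structureModule X}
    {t : CohB1.tensorMod F L ⟶ Coh.structureModule X} (C : KoszSh.Cx F s) (D : KoszSh.Cx (CohB1.tensorMod F L) t)
    (U : X.affineOpens) {l : Γ(L, U.1)} (hl : IsGen L U.1 l) (q : ℕ) (θ : CxDecData C D q) (N : X.Modules)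
    (g : C.K.X q ⟶ N) (c : Γ(C.K.X q, U.1)) :
    (θ.iso.hom ≫ KoszTw.tensorMap g (𝟙 (CohB1.tensorPow L q))).app U.1 (Φ C D U hl q c) =
      tm (g.app U.1 c) (P L U.1 l q) := by
  show (KoszTw.tensorMap g (𝟙 (CohB1.tensorPow L q))).app U.1 (θ.iso.hom.app U.1 (Φ C D U hl q c)) = _
  rw [iso_Φ C D U hl q θ c]
  exact KoszTw.tensorMap_tmul _ _ _ _ _

theorem kernel_eq (F L : X.Modules) (hF : FlatMod.IsFinLocFree F) (hL : PicF.IsInvertible L)
    (s : F ⟶ Coh.structureModule X) (lam : Coh.structureModule X ⟶ L) [Mono lam]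
    (t : CohB1.tensorMod F L ⟶ Coh.structureModule X) (htri : TwistTriangle s lam t)
    (C : KoszSh.Cx F s) (D : KoszSh.Cx (CohB1.tensorMod F L) t) (q : ℕ) (θ : CxDecData C D (q + 1)) :
    kernelSubobject (θ.iso.hom ≫ KoszTw.tensorMap (C.K.d (q + 1) q) (𝟙 (CohB1.tensorPow L (q + 1)))) =
      kernelSubobject (D.K.d (q + 1) q) := by
  refine kernelSubobject_eq_of_basis (isBasis_gen_frame hF hL) _ _ fun ⟨U, ⟨l, hl⟩, n, e, he⟩ x => ?_
  obtain ⟨c, rfl⟩ := (Φ_bijective C D U hl (q + 1)).2 x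
  obtain ⟨a, ha⟩ := exists_lam (lam := lam) U.1 hl
  have hnz : a ∈ nonZeroDivisors Γ(X, U.1) := mem_nonZeroDivisors_of_mono (lam := lam) U.1 ha
  rw [comp_tensorMap_iso_Φ C D U hl (q + 1) θ _ (C.K.d (q + 1) q) c]
  have hd := smul_d_Φ C D U hl htri ha q c
  constructor
  · intro h
    have h0 : (C.K.d (q + 1) q).app U.1 c = 0 :=
      (TensorGen.tmEquiv _ _ (isGen_P U hl (q + 1))).injective (h.trans (map_zero _).symm)
    rw [h0, map_zero] at hd
    exact smul_injective_of_frame D U hl q he hnz hd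
  · intro h
    rw [h, smul_zero] at hd
    have h0 : (C.K.d (q + 1) q).app U.1 c = 0 := (Φ_bijective C D U hl q).1 (hd.symm.trans (map_zero _).symm)
    rw [h0]
    exact (TensorGen.tmEquiv _ _ (isGen_P U hl (q + 1))).map_zero

theorem image_eq (F L : X.Modules) (hF : FlatMod.IsFinLocFree F) (hL : PicF.IsInvertible L)
    (s : F ⟶ Coh.structureModule X) (lam : Coh.structureModule X ⟶ L)
    (t : CohB1.tensorMod F L ⟶ Coh.structureModule X) (htri : TwistTriangle s lam t)
    (C : KoszSh.Cx F s) (D : KoszSh.Cx (CohB1.tensorMod F L) t) (q : ℕ) (θ : CxDecData C D q) :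
    imageSubobject (KoszTw.tensorMap (KoszTw.tensorMap (C.K.d (q + 1) q) (𝟙 (CohB1.tensorPow L q))) (𝟙 L)) =
      imageSubobject ((SecTwist.unitorR (D.K.X (q + 1))).inv ≫ KoszTw.tensorMap (D.K.d (q + 1) q) lam ≫
        KoszTw.tensorMap θ.iso.hom (𝟙 L)) := by
  have key : ∀ (U : X.affineOpens) (l : Γ(L, U.1)) (hl : IsGen L U.1 l) (c : Γ(C.K.X (q + 1), U.1)),
      (KoszTw.tensorMap (KoszTw.tensorMap (C.K.d (q + 1) q) (𝟙 (CohB1.tensorPow L q))) (𝟙 L)).app U.1
        (tm (tm c (P L U.1 l q)) l) =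
      ((SecTwist.unitorR (D.K.X (q + 1))).inv ≫ KoszTw.tensorMap (D.K.d (q + 1) q) lam ≫
        KoszTw.tensorMap θ.iso.hom (𝟙 L)).app U.1 (Φ C D U hl (q + 1) c) := by
    intro U l hl c
    obtain ⟨a, ha⟩ := exists_lam (lam := lam) U.1 hl
    show _ = (KoszTw.tensorMap θ.iso.hom (𝟙 L)).app U.1 ((KoszTw.tensorMap (D.K.d (q + 1) q) lam).app U.1
      ((SecTwist.unitorR (D.K.X (q + 1))).inv.app U.1 (Φ C D U hl (q + 1) c)))
    rw [unitorR_inv_app]
    erw [KoszTw.tensorMap_tmul, KoszTw.tensorMap_tmul, KoszTw.tensorMap_tmul, KoszTw.tensorMap_tmul]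
    show tm (tm ((C.K.d (q + 1) q).app U.1 c) (P L U.1 l q)) l = tm (θ.iso.hom.app U.1 _) (lam.app U.1 (1 : Γ(X, U.1)))
    rw [ha, one_mul, VA.tm_smul_right, ← VA.tm_smul_left, ← Scheme.Modules.Hom.app_smul,
      smul_d_Φ C D U hl htri ha q c, iso_Φ]
  refine le_antisymm (imageSubobject_le_of_basis (isBasis_gen_frame hF hL) _ _ ?_)
    (imageSubobject_le_of_basis (isBasis_gen_frame hF hL) _ _ ?_)
  · rintro ⟨U, ⟨l, hl⟩, -⟩ x
    obtain ⟨y, rfl⟩ := (TensorGen.bijective_tm _ L hl).2 x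
    obtain ⟨c, rfl⟩ := (TensorGen.bijective_tm _ _ (isGen_P U hl q)).2 y
    exact ⟨Φ C D U hl (q + 1) c, (key U l hl c).symm⟩
  · rintro ⟨U, ⟨l, hl⟩, -⟩ x
    obtain ⟨c, rfl⟩ := (Φ_bijective C D U hl (q + 1)).2 x
    exact ⟨_, key U l hl c⟩

end GrothLib.KoszTw9
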